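import Mathlib
import Cfsg.Agent.H451.RC.InstMinus
import Cfsg.Agent.S0249
import Cfsg.Agent.S0270
import Cfsg.Agent.S0295
import Cfsg.Agent.S0296
import Cfsg.Agent.S0298
import Cfsg.Agent.S0301
import Cfsg.Agent.S0302

/-!
# S3510 part B, box BN3: the groups `PΩ_{2m+1}(q)` and `PΩ^+_{2m}(q)`, `q` odd
(helper451 for helper384)
-/

set_option autoImplicit false

namespace Cfsg.Agent.H451.RC

open Cfsg Cfsg.Agent.H106.RC Cfsg.Agent.H384.RC Cfsg.Agent.H610.RC

theorem psl2_not_comm {K : Type} [Field K] [Fintype K] (h4 : 4 ≤ Fintype.card K) :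
    ¬ IsMulCommutative (Matrix.ProjectiveSpecialLinearGroup (Fin 2) K) := by
  have hs : IsSimpleGroup (Matrix.ProjectiveSpecialLinearGroup (Fin 2) K) :=
    Matrix.ProjectiveSpecialLinearGroup.rank_two_simple
      (by rw [Nat.card_eq_fintype_card]; exact h4)
  intro hc
  let _ : CommGroup (Matrix.ProjectiveSpecialLinearGroup (Fin 2) K) :=
    { (inferInstance : Group (Matrix.ProjectiveSpecialLinearGroup (Fin 2) K)) with
      mul_comm := hc.is_comm.comm }
  have hp : (Nat.card (Matrix.ProjectiveSpecialLinearGroup (Fin 2) K)).Prime :=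
    IsSimpleGroup.prime_card
  have hord := S0243.result (F := K) rfl 2 le_rfl
  set q := Fintype.card K with hq
  set N := Nat.card (Matrix.ProjectiveSpecialLinearGroup (Fin 2) K) with hN
  simp only [Fin.prod_univ_succ, Fin.prod_univ_zero] at hord
  simp only [Fin.coe_ofNat_eq_mod, Nat.zero_mod, pow_zero, Fin.succ_zero_eq_one, Nat.reduceMod,
    pow_one, mul_one] at hord
  have hc1 : (q - 1).Coprime q := by
    have h5 : (q - 1).Coprime ((q - 1) + 1) := by simp
    rwa [Nat.sub_add_cancel (by omega)] at h5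
  have hc2 : (Nat.gcd 2 (q - 1)).Coprime q :=
    Nat.Coprime.coprime_dvd_left (Nat.gcd_dvd_right _ _) hc1
  have hqN : q ∣ N := by
    apply hc1.symm.dvd_of_dvd_mul_left
    apply hc2.symm.dvd_of_dvd_mul_left
    rw [hord]
    refine Dvd.dvd.mul_left ?_ _
    exact ⟨q - 1, by rw [Nat.mul_sub, mul_one, ← pow_two]⟩
  have h3 : q = N := by
    rcases (Nat.dvd_prime hp).1 hqN with h | h
    · omega
    · exact h
  have hg2 : Nat.gcd 2 (q - 1) ≤ 2 := Nat.gcd_le_left _ (by norm_num)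
  have h6 : Nat.gcd 2 (q - 1) * ((q - 1) * N) ≤ 2 * ((q - 1) * q) := by
    rw [← h3]
    exact Nat.mul_le_mul_right _ hg2
  rw [hord] at h6
  obtain ⟨r, hr⟩ : ∃ r, q = r + 4 := ⟨q - 4, by omega⟩
  have e1 : q ^ 2 - 1 = (r + 3) * (r + 5) := by
    rw [hr]
    have : (r + 4) ^ 2 = (r + 3) * (r + 5) + 1 := by ring
    omega
  have e2 : q ^ 2 - q = (r + 4) * (r + 3) := by
    rw [hr]
    have : (r + 4) ^ 2 = (r + 4) * (r + 3) + (r + 4) := by ring
    omega
  have e3 : q - 1 = r + 3 := by omega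
  rw [e1, e2, e3, hr] at h6
  have h7 : 0 < (r + 3) * (r + 4) := by positivity
  have h8 : (r + 3) * (r + 4) * ((r + 3) * (r + 5)) ≤ (r + 3) * (r + 4) * 2 := by
    calc (r + 3) * (r + 4) * ((r + 3) * (r + 5)) = (r + 3) * (r + 5) * ((r + 4) * (r + 3)) := by
          ring
      _ ≤ 2 * ((r + 3) * (r + 4)) := h6
      _ = (r + 3) * (r + 4) * 2 := by ring
  have h9 := Nat.le_of_mul_le_mul_left h8 h7
  nlinarith

theorem psp_card_dvd {F : Type} [Field F] [Fintype F] {m : ℕ} (hm : 1 ≤ m) :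
    Fintype.card F ^ (m ^ 2) ∣ Nat.card (PSp m F) := by
  have hq := two_le_card F
  have h1 := S0245.result (F := F) rfl m
  have h2' := S0246.result (F := F) rfl m (by omega)
  have h3 := Subgroup.card_mul_index (Subgroup.center ↥(Matrix.symplecticGroup (Fin m) F))
  rw [h1, h2'] at h3
  have hord : Nat.gcd 2 (Fintype.card F - 1) * Nat.card (PSp m F) = Fintype.card F ^ (m ^ 2) *
      ∏ i ∈ Finset.range m, (Fintype.card F ^ (2 * (i + 1)) - 1) := h3
  have hc : (Nat.gcd 2 (Fintype.card F - 1)).Coprime (Fintype.card F ^ (m ^ 2)) := by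
    apply Nat.Coprime.pow_right
    exact cop_of_dvd_sub hq 1 one_ne_zero (by rw [pow_one]; exact Nat.gcd_dvd_right _ _)
  apply hc.symm.dvd_of_dvd_mul_left
  rw [hord]
  exact dvd_mul_right _ _

theorem psl4_card_dvd {F : Type} [Field F] [Fintype F] :
    Fintype.card F ^ 6 ∣ Nat.card (Matrix.ProjectiveSpecialLinearGroup (Fin 4) F) := by
  have hq := two_le_card F
  have hord := S0243.result (F := F) rfl 4 (by norm_num)
  set q := Fintype.card F with hqd
  have hc1 : (q - 1).Coprime (q ^ 6) := by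
    apply Nat.Coprime.pow_right
    have h5 : (q - 1).Coprime ((q - 1) + 1) := by simp
    rwa [Nat.sub_add_cancel (by omega)] at h5
  have hc2 : (Nat.gcd 4 (q - 1)).Coprime (q ^ 6) :=
    Nat.Coprime.coprime_dvd_left (Nat.gcd_dvd_right _ _) hc1
  apply hc1.symm.dvd_of_dvd_mul_left
  apply hc2.symm.dvd_of_dvd_mul_left
  rw [hord, Fin.prod_univ_four]
  have h1 : q ∣ q ^ 4 - q ^ 1 := ⟨q ^ 3 - 1, by rw [Nat.mul_sub, mul_one, pow_one, ← pow_succ']⟩
  have h2 : q ^ 2 ∣ q ^ 4 - q ^ 2 := ⟨q ^ 2 - 1, by rw [Nat.mul_sub, mul_one, ← pow_add]⟩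
  have h3 : q ^ 3 ∣ q ^ 4 - q ^ 3 := ⟨q - 1, by rw [Nat.mul_sub, mul_one, ← pow_succ]⟩
  have e : q ^ 6 = q * q ^ 2 * q ^ 3 := by ring
  rw [e]
  refine mul_dvd_mul (mul_dvd_mul ?_ h2) h3
  exact Dvd.dvd.mul_left h1 _

theorem omegaOdd_card_dvd {F : Type} [Field F] [Fintype F] (hodd : Odd (Fintype.card F)) {m : ℕ}
    (hm : 3 ≤ m) : Fintype.card F ^ (m ^ 2) ∣ Nat.card (POmega F (quadFormOdd m F)) := by
  have hord := S0292.result (F := F) rfl hodd m hm
  have hc : (2 : ℕ).Coprime (Fintype.card F ^ (m ^ 2)) := by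
    apply Nat.Coprime.pow_right
    exact (Nat.coprime_two_left).2 hodd
  apply hc.symm.dvd_of_dvd_mul_left
  rw [hord]
  exact dvd_mul_right _ _

theorem omegaPlus_card_dvd {F : Type} [Field F] [Fintype F] {m : ℕ} (hm : 4 ≤ m) :
    Fintype.card F ^ (m * (m - 1)) ∣ Nat.card (POmega F (quadFormPlus m F)) := by
  have hq := two_le_card F
  have hord := S0293.result (F := F) rfl m hm
  have hc : (Nat.gcd 4 (Fintype.card F ^ m - 1)).Coprime (Fintype.card F ^ (m * (m - 1))) := by
    apply Nat.Coprime.pow_right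
    exact cop_of_dvd_sub hq m (by omega) (Nat.gcd_dvd_right _ _)
  apply hc.symm.dvd_of_dvd_mul_left
  rw [hord, mul_assoc]
  exact dvd_mul_right _ _

/-- **box BN3, odd dimension** -/
theorem inst_odd {N : ℕ} (hIH : IH N) {F : Type} [Field F] [Fintype F]
    (hodd : Odd (Fintype.card F)) {m : ℕ} (hm : 1 ≤ m) (h1 : m = 1 → 5 ≤ Fintype.card F) :
    IsSimpleGroup (POmega F (quadFormOdd m F)) ∧
      ¬ IsMulCommutative (POmega F (quadFormOdd m F)) ∧
      (Nat.card (POmega F (quadFormOdd m F)) < N → RCo (POmega F (quadFormOdd m F))) := by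
  have hq3 : 3 ≤ Fintype.card F := by
    have := two_le_card F
    obtain ⟨k, hk⟩ := hodd
    omega
  rcases (by omega : m = 1 ∨ m = 2 ∨ 3 ≤ m) with rfl | rfl | h3
  · have h5 := h1 rfl
    obtain ⟨e⟩ := S0298.result hodd
    have hs : IsSimpleGroup (Matrix.ProjectiveSpecialLinearGroup (Fin 2) F) :=
      Matrix.ProjectiveSpecialLinearGroup.rank_two_simple
        (by rw [Nat.card_eq_fintype_card]; omega)
    exact inst_of_equiv hIH e hs (psl2_not_comm (by omega))
      (Or.inl ⟨F, inferInstance, inferInstance, 2, le_rfl, fun _ => by omega,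
        ⟨MulEquiv.refl _⟩⟩) psl2_not_alt8
  · obtain ⟨e⟩ := S0301.result hodd
    have hs : IsSimpleGroup (PSp 2 F) := S0270.result 2 le_rfl fun _ => hq3
    refine inst_of_equiv hIH e hs
      (not_comm_of_pow_dvd hs (q := Fintype.card F) (k := 2 ^ 2) (by omega) (by norm_num)
        (psp_card_dvd (by norm_num)))
      (Or.inr (Or.inl ⟨F, inferInstance, inferInstance, 2, le_rfl, fun _ => hq3,
        ⟨MulEquiv.refl _⟩⟩)) ?_
    intro h
    exact psp_not_exc le_rfl (fun _ => hq3) (Or.inr (Or.inr h))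
  · have hs := S0295.result hodd m h3
    refine inst_of_equiv hIH (MulEquiv.refl _) hs
      (not_comm_of_pow_dvd hs (q := Fintype.card F) (k := m ^ 2) (by omega) (by nlinarith)
        (omegaOdd_card_dvd hodd h3))
      (Or.inr (Or.inr (Or.inr (Or.inl ⟨F, inferInstance, inferInstance, m, h3, hodd,
        ⟨MulEquiv.refl _⟩⟩)))) ?_
    intro h
    exact pomegaOdd_not_exc h3 hodd (Or.inr (Or.inr h))

/-- **box BN3, plus type** -/
theorem inst_plus {N : ℕ} (hIH : IH N) {F : Type} [Field F] [Fintype F]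
    (hodd : Odd (Fintype.card F)) {m : ℕ} (hm : 3 ≤ m) :
    IsSimpleGroup (POmega F (quadFormPlus m F)) ∧
      ¬ IsMulCommutative (POmega F (quadFormPlus m F)) ∧
      (Nat.card (POmega F (quadFormPlus m F)) < N → RCo (POmega F (quadFormPlus m F))) := by
  have hq3 : 3 ≤ Fintype.card F := by
    have := two_le_card F
    obtain ⟨k, hk⟩ := hodd
    omega
  rcases (by omega : m = 3 ∨ 4 ≤ m) with rfl | h4
  · obtain ⟨e⟩ := S0302.result (F := F)
    have hs : IsSimpleGroup (Matrix.ProjectiveSpecialLinearGroup (Fin 4) F) :=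
      S0249.result 4 (by norm_num)
    refine inst_of_equiv hIH e hs
      (not_comm_of_pow_dvd hs (q := Fintype.card F) (k := 6) (by omega) (by norm_num)
        psl4_card_dvd)
      (Or.inl ⟨F, inferInstance, inferInstance, 4, by norm_num, fun h => by omega,
        ⟨MulEquiv.refl _⟩⟩) ?_
    intro h
    rcases psl_exc (F := F) (n := 4) (by norm_num) (Or.inr (Or.inr h)) with ⟨h5, -⟩ | ⟨-, h5⟩
    · omega
    · omega
  · have hs := S0296.result (F := F) m h4
    refine inst_of_equiv hIH (MulEquiv.refl _) hs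
      (not_comm_of_pow_dvd hs (q := Fintype.card F) (k := m * (m - 1)) (by omega) ?_
        (omegaPlus_card_dvd h4))
      (Or.inr (Or.inr (Or.inr (Or.inr (Or.inl ⟨F, inferInstance, inferInstance, m, h4,
        ⟨MulEquiv.refl _⟩⟩))))) ?_
    · have := Nat.mul_le_mul h4 (by omega : 3 ≤ m - 1)
      omega
    · intro h
      exact pomegaPlus_not_exc h4 (Or.inr (Or.inr h))

end Cfsg.Agent.H451.RC
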